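import Mathlib
import Cfsg.Agent.H19.Ly.W.D0
import Cfsg.Agent.H19.Ly.R111
import Cfsg.Agent.H19.DCE5

set_option autoImplicit false
set_option maxRecDepth 100000
set_option Elab.async false
set_option linter.all false

namespace H19.Ly.W
open H29

def wA : List (List ℕ) := [[20, 23], [40, 20, 23, 41], [40, 77, 41, 20, 23, 40, 76, 41], [41, 12, 50, 1, 15, 40, 20, 23, 41, 14, 0, 51, 13, 40], [77, 41, 12, 50, 1, 15, 40, 20, 23, 41, 14, 0, 51, 13, 40, 76], [12, 50, 1, 15, 12, 50, 1, 15, 40, 77, 41, 20, 23, 40, 76, 41, 14, 0, 51, 13, 14, 0, 51, 13], [12, 50, 1, 15, 40, 12, 50, 1, 15, 41, 77, 41, 20, 23, 40, 76, 40, 14, 0, 51, 13, 41, 14, 0, 51, 13], [12, 50, 1, 15, 76, 12, 50, 1, 15, 40, 77, 41, 20, 23, 40, 76, 41, 14, 0, 51, 13, 77, 14, 0, 51, 13], [14, 0, 51, 13, 76, 12, 50, 1, 15, 40, 77, 41, 20, 23,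 40, 76, 41, 14, 0, 51, 13, 77, 12, 50, 1, 15], [28, 28]]
def wM : List (List ℕ) := [[28, 28], [19, 34, 76, 35, 35, 18, 77, 35, 28, 28, 34, 76, 19, 34, 34, 77, 35, 18], [35, 28, 28, 34], [18, 18, 35, 28, 28, 34, 19, 19], [18, 34, 76, 35, 19, 35, 28, 28, 34, 18, 34, 77, 35, 19], [19, 35, 28, 28, 34, 18], [20, 23]]
noncomputable def xA : List ℕ := [a0, a1, a2, a3, a4, a5, a6, a7, a8, a9]
noncomputable def xM : List ℕ := [m0, m1, m2, m3, m4, m5, m6]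
def EA0 : List (List ℕ × List ℕ) := [([0, 0, 0], []), ([1, 1, 1], []), ([2, 2, 2], []), ([3, 3, 3], []), ([4, 4, 4], []), ([5, 5, 5], []), ([6, 6, 6], []), ([7, 7, 7], []), ([8, 8, 8], []), ([0, 9], [9, 0]), ([1, 9], [9, 1]), ([2, 9], [9, 2]), ([3, 9], [9, 3]), ([4, 9], [9, 4]), ([5, 9], [9, 5]), ([6, 9], [9, 6])]
def EA1 : List (List ℕ × List ℕ) := [([7, 9], [9, 7]), ([8, 9], [9, 8]), ([0, 1, 0, 1], [9]), ([0, 2, 0, 2], [9]), ([1, 2, 1, 2], [9]), ([0, 3, 0, 3], [9]), ([1, 3, 1, 3], [9]), ([2, 3, 2, 3], [9]), ([0, 4, 0, 4], [9]), ([1, 4, 1, 4], [9])]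
def EA2 : List (List ℕ × List ℕ) := [([2, 4, 2, 4], [9]), ([3, 4, 3, 4], [9]), ([0, 5, 0, 5], [9]), ([1, 5, 1, 5], [9]), ([2, 5, 2, 5], [9]), ([3, 5, 3, 5], [9]), ([4, 5, 4, 5], [9]), ([0, 6, 0, 6], [9]), ([1, 6, 1, 6], [9]), ([2, 6, 2, 6], [9])]
def EA3 : List (List ℕ × List ℕ) := [([3, 6, 3, 6], [9]), ([4, 6, 4, 6], [9]), ([5, 6, 5, 6], [9]), ([0, 7, 0, 7], [9]), ([1, 7, 1, 7], [9]), ([2, 7, 2, 7], [9]), ([3, 7, 3, 7], [9]), ([4, 7, 4, 7], [9]), ([5, 7, 5, 7], [9]), ([6, 7, 6, 7], [9])]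
def EA4 : List (List ℕ × List ℕ) := [([0, 8, 0, 8], [9]), ([1, 8, 1, 8], [9]), ([2, 8, 2, 8], [9]), ([3, 8, 3, 8], [9]), ([4, 8, 4, 8], [9]), ([5, 8, 5, 8], [9]), ([6, 8, 6, 8], [9]), ([7, 8, 7, 8], [9]), ([9, 9], [])]
def EM0 : List (List ℕ × List ℕ) := [([0, 0], []), ([1, 1], []), ([2, 2], []), ([3, 3], []), ([4, 4], []), ([5, 5], []), ([0, 6], [6, 0]), ([1, 6], [6, 1]), ([2, 6], [6, 2]), ([3, 6], [6, 3]), ([4, 6], [6, 4]), ([5, 6], [6, 5]), ([6, 6, 6], []), ([0, 1, 0], [1, 0, 1]), ([0, 2], [2, 0]), ([0, 3], [3, 0])]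
def EM1 : List (List ℕ × List ℕ) := [([0, 4, 0, 4], [4, 0, 4, 0]), ([0, 5], [5, 0]), ([1, 2, 1, 2, 1], [2, 1, 2, 1, 2]), ([1, 3], [3, 1]), ([1, 4], [4, 1]), ([1, 5], [5, 1]), ([2, 3, 2], [3, 2, 3]), ([2, 4, 2], [4, 2, 4])]
def EM2 : List (List ℕ × List ℕ) := [([2, 5, 2, 5], [5, 2, 5, 2]), ([3, 4], [4, 3]), ([3, 5, 3], [5, 3, 5]), ([4, 5, 4, 5, 4, 5], [5, 4, 5, 4, 5, 4]), ([4, 0, 1, 4, 0], [1, 0, 4, 1])]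
def EM3 : List (List ℕ × List ℕ) := [([1, 2, 4, 1, 2, 4, 1, 2], [4, 2, 1, 4, 2, 1, 4]), ([0, 4, 2, 3, 0, 4, 2, 3], [3, 2, 4, 0, 3, 2, 4, 0])]
def EM4 : List (List ℕ × List ℕ) := [([0, 1, 2, 0, 1, 2, 0, 1], [2, 1, 0, 2, 1, 0, 2]), ([1, 2, 3, 1, 2, 3, 1, 2], [3, 2, 1, 3, 2, 1, 3]), ([0, 2, 5], [5, 2]), ([1, 4, 5, 4], [5, 4, 5])]
def EM5 : List (List ℕ × List ℕ) := [([2, 4, 5, 2, 4, 5, 2, 4, 5, 2, 4, 6], [5, 4, 2, 5, 4, 2, 5, 4, 2, 5])]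
def EM6 : List (List ℕ × List ℕ) := [([0, 1, 0, 2, 4, 0, 1, 0, 2, 4, 6], [4, 2, 0, 1, 0, 4, 2, 0, 1, 0])]

end H19.Ly.W
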