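import Mathlib
import Cfsg.Agent.H19.Ly.W.B

set_option autoImplicit false
set_option maxRecDepth 100000
set_option Elab.async false
set_option linter.all false

namespace H19.Ly.W
open H29

theorem wA0 : chkW R111.C.mul R111.C.one R111.lc wA xA 0 = true := by decide +kernel

theorem wA1 : chkW R111.C.mul R111.C.one R111.lc wA xA 1 = true := by decide +kernel

theorem wA2 : chkW R111.C.mul R111.C.one R111.lc wA xA 2 = true := by decide +kernel

theorem wA3 : chkW R111.C.mul R111.C.one R111.lc wA xA 3 = true := by decide +kernel

theorem wA4 : chkW R111.C.mul R111.C.one R111.lc wA xA 4 = true := by decide +kernel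

theorem wA5 : chkW R111.C.mul R111.C.one R111.lc wA xA 5 = true := by decide +kernel

theorem wA6 : chkW R111.C.mul R111.C.one R111.lc wA xA 6 = true := by decide +kernel

theorem wA7 : chkW R111.C.mul R111.C.one R111.lc wA xA 7 = true := by decide +kernel

theorem wA8 : chkW R111.C.mul R111.C.one R111.lc wA xA 8 = true := by decide +kernel

theorem wA9 : chkW R111.C.mul R111.C.one R111.lc wA xA 9 = true := by decide +kernel

end H19.Ly.W
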