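import Mathlib
import Cfsg.Agent.H19.Ly.W.B

set_option autoImplicit false
set_option maxRecDepth 100000
set_option Elab.async false
set_option linter.all false

namespace H19.Ly.W
open H29

theorem eA4 : chkEqs R111.C.mul R111.C.one (nth R111.C.one xA) EA4 = true := by decide +kernel

theorem wM0 : chkW R111.C.mul R111.C.one R111.lc wM xM 0 = true := by decide +kernel

theorem wM1 : chkW R111.C.mul R111.C.one R111.lc wM xM 1 = true := by decide +kernel

theorem wM2 : chkW R111.C.mul R111.C.one R111.lc wM xM 2 = true := by decide +kernel

theorem wM3 : chkW R111.C.mul R111.C.one R111.lc wM xM 3 = true := by decide +kernel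

theorem wM4 : chkW R111.C.mul R111.C.one R111.lc wM xM 4 = true := by decide +kernel

theorem wM5 : chkW R111.C.mul R111.C.one R111.lc wM xM 5 = true := by decide +kernel

theorem wM6 : chkW R111.C.mul R111.C.one R111.lc wM xM 6 = true := by decide +kernel

theorem eM0 : chkEqs R111.C.mul R111.C.one (nth R111.C.one xM) EM0 = true := by decide +kernel

end H19.Ly.W
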