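import Mathlib
import Cfsg.Agent.H19.Ly.W.B

set_option autoImplicit false
set_option maxRecDepth 100000
set_option Elab.async false
set_option linter.all false

namespace H19.Ly.W
open H29

theorem eM1 : chkEqs R111.C.mul R111.C.one (nth R111.C.one xM) EM1 = true := by decide +kernel

theorem eM2 : chkEqs R111.C.mul R111.C.one (nth R111.C.one xM) EM2 = true := by decide +kernel

theorem eM3 : chkEqs R111.C.mul R111.C.one (nth R111.C.one xM) EM3 = true := by decide +kernel

theorem eM4 : chkEqs R111.C.mul R111.C.one (nth R111.C.one xM) EM4 = true := by decide +kernel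

theorem eM5 : chkEqs R111.C.mul R111.C.one (nth R111.C.one xM) EM5 = true := by decide +kernel

end H19.Ly.W
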