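import Mathlib
import Cfsg.Agent.H19.Ly.W.B

set_option autoImplicit false
set_option maxRecDepth 100000
set_option Elab.async false
set_option linter.all false

namespace H19.Ly.W
open H29

theorem eM6 : chkEqs R111.C.mul R111.C.one (nth R111.C.one xM) EM6 = true := by decide +kernel

theorem q37 : (seqN (evC R111.C.mul R111.C.one R111.lc [70, 35, 77]) fun x => and2 (Nat.beq (powC R111.C.mul R111.C.one x 8 37) R111.C.one)
    (Bool.rec true false (Nat.beq x R111.C.one))) = true := by decide +kernel

theorem q67 : (seqN (evC R111.C.mul R111.C.one R111.lc [69, 43, 77]) fun x => and2 (Nat.beq (powC R111.C.mul R111.C.one x 8 67) R111.C.one)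
    (Bool.rec true false (Nat.beq x R111.C.one))) = true := by decide +kernel

end H19.Ly.W
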